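import Mathlib.Algebra.MvPolynomial.CommRing
import Mathlib.Algebra.MvPolynomial.Equiv
import Mathlib.Algebra.Polynomial.Div
import Mathlib.Algebra.Polynomial.RingDivision
import Mathlib.FieldTheory.IsAlgClosed.Basic
import Mathlib.RingTheory.Polynomial.Basic
import Mathlib.RingTheory.Flat.Basic
import Mathlib.RingTheory.Flat.TorsionFree
import Mathlib.LinearAlgebra.FreeModule.PID
import Mathlib.RingTheory.Finiteness.Basic
import Mathlib.RingTheory.RingHom.Flat
import Mathlib.RingTheory.RingHom.Finite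
import Mathlib.RingTheory.FiniteType
import Mathlib.Tactic.FinCases
import Mathlib.Tactic.LinearCombination

/-!
Pulling a punctual ideal of the plane apart along a line.
-/

set_option autoImplicit false
set_option linter.style.haveILetI false
set_option backward.isDefEq.respectTransparency.types false
universe u

open Polynomial

namespace Groth.L28.PullApart

/-- A criterion for a ring map from a PID to be flat and finite. -/
theorem flat_finite_of_ringHom {R B : Type*} [CommRing R] [IsDomain R] [IsPrincipalIdealRing R] [CommRing B]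
    (φ : R →+* B) (S : Set B) (hS : S.Finite)
    (hspan : ∀ P : AddSubmonoid B, (∀ (r : R) (g : B), g ∈ S → φ r * g ∈ P) → ∀ b, b ∈ P)
    (hreg : ∀ r : R, r ≠ 0 → ∀ b, φ r * b = 0 → b = 0) : φ.Flat ∧ φ.Finite := by
  letI := φ.toAlgebra
  have hfin : Module.Finite R B := ⟨Submodule.fg_def.2 ⟨S, hS, eq_top_iff.2 fun b _ =>
    show b ∈ (Submodule.span R S).toAddSubmonoid from hspan _ (fun r g hg => by
      show φ r * g ∈ Submodule.span R S
      rw [show φ r * g = r • g from (Algebra.smul_def r g).symm]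
      exact Submodule.smul_mem _ r (Submodule.subset_span hg)) b⟩⟩
  haveI : Module.IsTorsionFree R B := ⟨fun r hr x y hxy => by
    refine sub_eq_zero.1 (hreg r hr.ne_zero _ ?_)
    simp only [Algebra.smul_def, RingHom.algebraMap_toAlgebra] at hxy
    rw [mul_sub, hxy, sub_self]⟩
  exact ⟨Module.Flat.of_free, hfin⟩

variable {k : Type u} [Field k]

local notation "A" => MvPolynomial (Fin 2) k

lemma cases_fin2 {i j : Fin 2} (hij : i ≠ j) (l : Fin 2) : l = i ∨ l = j := by omega

/-- Forms vanishing at a point lie in the ideal of the point. -/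
lemma mem_pointIdeal (p : Fin 2 → k) (h : A) (hh : MvPolynomial.eval p h = 0) :
    h ∈ Ideal.span (Set.range fun i : Fin 2 => MvPolynomial.X i - MvPolynomial.C (p i)) := by
  set I := Ideal.span (Set.range fun i : Fin 2 => MvPolynomial.X i - MvPolynomial.C (p i))
  have e : Ideal.Quotient.mk I = ((Ideal.Quotient.mk I).comp MvPolynomial.C).comp (MvPolynomial.eval p) := by
    refine MvPolynomial.ringHom_ext (fun r => by simp) fun l => ?_
    simp only [RingHom.comp_apply, MvPolynomial.eval_X, Ideal.Quotient.eq]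
    exact Ideal.subset_span ⟨l, rfl⟩
  have := RingHom.congr_fun e h
  rw [RingHom.comp_apply, hh, map_zero] at this
  exact Ideal.Quotient.eq_zero_iff_mem.1 this

variable (i : Fin 2)

/-- `x ↦ X`, `y ↦ 0`. -/
noncomputable def θ₀ : A →ₐ[k] k[X] := MvPolynomial.aeval fun l => if l = i then X else 0

/-- `x ↦ X`, `y ↦ t`, `t ↦ t`. -/
noncomputable def θ : (A)[X] →+* (k[X])[X] :=
  Polynomial.eval₂RingHom (MvPolynomial.eval₂Hom (C.comp C) fun l => if l = i then X else C X) (C X)

/-- A right inverse of `θ`. -/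
noncomputable def σ : (k[X])[X] →+* (A)[X] :=
  Polynomial.eval₂RingHom (Polynomial.mapRingHom (algebraMap k A)) (C (MvPolynomial.X i))

variable {i} {j : Fin 2}

lemma dvd_sub_θ₀ (hij : i ≠ j) (h : A) :
    MvPolynomial.X j ∣ h - Polynomial.aeval (MvPolynomial.X i) (θ₀ i h) := by
  rw [← Ideal.mem_span_singleton, ← Ideal.Quotient.eq]
  refine (RingHom.congr_fun (g := (Ideal.Quotient.mk _).comp ((Polynomial.aeval (MvPolynomial.X i : A)).toRingHom.comp
    (θ₀ i).toRingHom)) (MvPolynomial.ringHom_ext (fun r => by simp [θ₀]) fun l => ?_) h)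
  rcases cases_fin2 hij l with rfl | rfl
  · simp [θ₀]
  · simp [θ₀, hij.symm]

lemma dvd_sub_θ (hij : i ≠ j) (u : (A)[X]) :
    (C (MvPolynomial.X j) - X) ∣ u - σ i (θ i u) := by
  rw [← Ideal.mem_span_singleton, ← Ideal.Quotient.eq]
  refine (RingHom.congr_fun (g := (Ideal.Quotient.mk _).comp ((σ i).comp (θ i)))
    (Polynomial.ringHom_ext' (MvPolynomial.ringHom_ext (fun r => by simp [θ, σ]) fun l => ?_)
      (by simp [θ, σ])) u)
  rcases cases_fin2 hij l with rfl | rfl
  · simp [θ, σ]
  · simp only [θ, σ, RingHom.comp_apply, coe_eval₂RingHom, eval₂_C, MvPolynomial.eval₂Hom_X',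
      if_neg hij.symm, Polynomial.coe_mapRingHom, map_X, Ideal.Quotient.eq]
    exact Ideal.mem_span_singleton_self _

lemma θ_C_aeval (r : k[X]) : θ i (C (Polynomial.aeval (MvPolynomial.X i : A) r)) = r.map C := by
  induction r using Polynomial.induction_on' with
  | add p q hp hq => simp only [map_add, hp, hq, Polynomial.map_add]
  | monomial n c =>
    rw [← C_mul_X_pow_eq_monomial]
    simp [θ, eval₂_pow]

lemma θ_C_X_ne (hij : i ≠ j) : θ i (C (MvPolynomial.X j : A)) = C X := by simp [θ, hij.symm]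

lemma θ_C_X_self : θ i (C (MvPolynomial.X i : A)) = X := by simp [θ]

lemma θ_X : θ i (X : (A)[X]) = C X := by simp [θ]

lemma θ_map (p : k[X]) : θ i (Polynomial.mapRingHom (algebraMap k A) p) = C p := by
  refine RingHom.congr_fun (f := (θ i).comp (Polynomial.mapRingHom (algebraMap k A))) (g := C)
    (Polynomial.ringHom_ext (fun r => ?_) ?_) p <;> simp [θ]

lemma θ_σ (v : (k[X])[X]) : θ i (σ i v) = v := by
  refine RingHom.congr_fun (f := (θ i).comp (σ i)) (g := RingHom.id _)
    (Polynomial.ringHom_ext (fun r => ?_) ?_) v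
  · show θ i (eval₂ (Polynomial.mapRingHom (algebraMap k A)) _ (C r)) = C r
    rw [eval₂_C, θ_map]
  · show θ i (eval₂ (Polynomial.mapRingHom (algebraMap k A)) _ X) = X
    rw [eval₂_X, θ_C_X_self]

section Family

variable (𝔞 : Ideal (MvPolynomial (Fin 2) k)) (i j)

/-- The residual ideal. -/
noncomputable def colon : Ideal A := Submodule.comap (LinearMap.mul A A (MvPolynomial.X j)) 𝔞

variable {i j 𝔞}

lemma mem_colon {h : A} : h ∈ colon j 𝔞 ↔ MvPolynomial.X j * h ∈ 𝔞 := Iff.rfl

variable (i j 𝔞) in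
/-- The family. -/
noncomputable def fam (f : A) : Ideal (A)[X] :=
  Ideal.span {C f} ⊔ Ideal.span {C (MvPolynomial.X j) - X} * (colon j 𝔞).map C

lemma mem_fam {f : A} {u : (A)[X]} :
    u ∈ fam j 𝔞 f ↔ ∃ s b, b ∈ (colon j 𝔞).map C ∧ u = s * C f + (C (MvPolynomial.X j) - X) * b := by
  simp only [fam, Submodule.mem_sup, Ideal.mem_span_singleton', Ideal.mem_span_singleton_mul]
  constructor
  · rintro ⟨_, ⟨s, rfl⟩, _, ⟨b, hb, rfl⟩, rfl⟩
    exact ⟨s, b, hb, rfl⟩
  · rintro ⟨s, b, hb, rfl⟩
    exact ⟨_, ⟨s, rfl⟩, _, ⟨b, hb, rfl⟩, rfl⟩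

/-- The algebra structure of the family over the parameter line. -/
noncomputable abbrev strMap (I : Ideal (A)[X]) : k[X] →+* (A)[X] ⧸ I :=
  (Ideal.Quotient.mk I).comp (Polynomial.mapRingHom (algebraMap k A))

variable (hij : i ≠ j) {f : MvPolynomial (Fin 2) k} (hmon : (θ i (C f)).Monic)
  (hf : f ∈ 𝔞)

include hij hmon hf in
theorem flat_finite [Module.Finite k (MvPolynomial (Fin 2) k ⧸ 𝔞)] :
    RingHom.Flat (R := k[X]) (S := (A)[X] ⧸ fam j 𝔞 f) (strMap (fam j 𝔞 f)) ∧
      @RingHom.Finite k[X] ((A)[X] ⧸ fam j 𝔞 f) _ _ (strMap (fam j 𝔞 f)) := by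
  set I := fam j 𝔞 f
  set F := θ i (C f)
  set d : (A)[X] := C (MvPolynomial.X j) - X with hd
  have hfcolon : f ∈ colon j 𝔞 := mem_colon.2 (Ideal.mul_mem_left _ _ hf)
  have hle : 𝔞 ≤ colon j 𝔞 := fun h hh => mem_colon.2 (Ideal.mul_mem_left _ _ hh)
  have hθd : θ i d = 0 := by rw [map_sub, θ_C_X_ne hij, θ_X, sub_self]
  have key : ∀ S : Set ((A)[X] ⧸ I), S.Finite →
      (∀ P : AddSubmonoid ((A)[X] ⧸ I), (∀ (p : k[X]) g, g ∈ S → strMap I p * g ∈ P) → ∀ x, x ∈ P) →
      (∀ p : k[X], p ≠ 0 → ∀ u : (A)[X], Polynomial.mapRingHom (algebraMap k A) p * u ∈ I → u ∈ I) →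
      RingHom.Flat (R := k[X]) (S := (A)[X] ⧸ I) (strMap I) ∧ @RingHom.Finite k[X] ((A)[X] ⧸ I) _ _ (strMap I) :=
    fun S hS hspan hreg => flat_finite_of_ringHom (strMap I) S hS hspan fun p hp x hx => by
      obtain ⟨u, rfl⟩ := Ideal.Quotient.mk_surjective x
      exact Ideal.Quotient.eq_zero_iff_mem.2 (hreg p hp u (Ideal.Quotient.eq_zero_iff_mem.1 (by rw [map_mul]; exact hx)))
  obtain ⟨gens, hgfin, hgens⟩ : ∃ S : Set ((A)[X] ⧸ I), S.Finite ∧
      ∀ P : AddSubmonoid ((A)[X] ⧸ I), (∀ (p : k[X]) g, g ∈ S → strMap I p * g ∈ P) → ∀ x, x ∈ P := by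
    classical
    haveI : Module.Finite k (A ⧸ colon j 𝔞) :=
      Module.Finite.of_surjective (Ideal.Quotient.factorₐ k hle).toLinearMap
        (Ideal.Quotient.factor_surjective hle)
    obtain ⟨G, hG⟩ := Module.Finite.fg_top (R := k) (M := A ⧸ colon j 𝔞)
    choose lift hlift using fun q : A ⧸ colon j 𝔞 => Ideal.Quotient.mk_surjective q
    let gens : Set ((A)[X] ⧸ I) :=
      ((fun m : ℕ => Ideal.Quotient.mk I (C (MvPolynomial.X i) ^ m)) '' Set.Iio F.natDegree) ∪
        ((fun q => Ideal.Quotient.mk I (d * C (lift q))) '' (G : Set (A ⧸ colon j 𝔞)))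
    refine ⟨gens, ((Set.finite_Iio _).image _).union (G.finite_toSet.image _), fun P hP x => ?_⟩
    have hPm : ∀ (p : k[X]) (v : (A)[X]), Ideal.Quotient.mk I v ∈ gens →
        Ideal.Quotient.mk I (Polynomial.mapRingHom (algebraMap k A) p * v) ∈ P := fun p v hv => by
      rw [map_mul]; exact hP p _ hv
    obtain ⟨u, rfl⟩ := Ideal.Quotient.mk_surjective x
    have hdmem : ∀ w : (A)[X], Ideal.Quotient.mk I (d * w) ∈ P := by
      intro w
      induction w using Polynomial.induction_on' with
      | add p q hp hq => rw [mul_add, map_add]; exact add_mem hp hq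
      | monomial n h =>
        have hq : Ideal.Quotient.mk (colon j 𝔞) h ∈ Submodule.span k (G : Set (A ⧸ colon j 𝔞)) :=
          hG ▸ Submodule.mem_top
        obtain ⟨c, -, hc⟩ := Submodule.mem_span_finset.1 hq
        have hb : h - ∑ q ∈ G, algebraMap k A (c q) * lift q ∈ colon j 𝔞 := by
          rw [← Ideal.Quotient.eq_zero_iff_mem, map_sub, map_sum, sub_eq_zero, ← hc]
          refine Finset.sum_congr rfl fun q _ => ?_
          rw [map_mul, hlift]
          exact Algebra.smul_def (c q) q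
        have hI : d * (monomial n (h - ∑ q ∈ G, algebraMap k A (c q) * lift q)) ∈ I := by
          refine Ideal.mem_sup_right (Ideal.mul_mem_mul (Ideal.mem_span_singleton_self d) ?_)
          rw [← C_mul_X_pow_eq_monomial]
          exact Ideal.mul_mem_right _ _ (Ideal.mem_map_of_mem C hb)
        rw [map_sub, map_sum, mul_sub, ← Ideal.Quotient.eq] at hI
        rw [hI, Finset.mul_sum, map_sum]
        refine sum_mem fun q hq => ?_
        have : d * monomial n (algebraMap k A (c q) * lift q) =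
            Polynomial.mapRingHom (algebraMap k A) (monomial n (c q)) * (d * C (lift q)) := by
          rw [Polynomial.coe_mapRingHom, Polynomial.map_monomial, ← C_mul_X_pow_eq_monomial,
            ← C_mul_X_pow_eq_monomial, C_mul]
          ring
        rw [this]
        exact hPm _ _ (Or.inr ⟨q, hq, rfl⟩)
    obtain ⟨w, hw⟩ := dvd_sub_θ hij (u - C f * σ i (θ i u /ₘ F))
    rw [map_sub, map_mul, show θ i (C f) = F from rfl] at hw
    rw [θ_σ] at hw
    have hrem : θ i u - F * (θ i u /ₘ F) = θ i u %ₘ F := by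
      linear_combination -(Polynomial.modByMonic_add_div (θ i u) F)
    rw [hrem] at hw
    have hu : u = C f * σ i (θ i u /ₘ F) + σ i (θ i u %ₘ F) + d * w := by linear_combination hw
    have hmem : Ideal.Quotient.mk I (C f * σ i (θ i u /ₘ F)) = 0 :=
      Ideal.Quotient.eq_zero_iff_mem.2 (Ideal.mul_mem_right _ _ (Ideal.mem_sup_left (Ideal.mem_span_singleton_self _)))
    rw [hu, map_add, map_add, hmem, zero_add]
    refine add_mem ?_ (hdmem w)
    rw [(θ i u %ₘ F).as_sum_support, map_sum, map_sum]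
    refine sum_mem fun m hm => ?_
    have hmd : m < F.natDegree := by
      have h1 : ((θ i u %ₘ F).degree) < F.degree := degree_modByMonic_lt _ hmon
      have h2 := le_degree_of_mem_supp m hm
      rw [degree_eq_natDegree hmon.ne_zero] at h1
      exact_mod_cast h2.trans_lt h1
    simp only [σ, coe_eval₂RingHom, eval₂_monomial]
    exact hPm _ _ (Or.inl ⟨m, hmd, rfl⟩)
  have hreg : ∀ p : k[X], p ≠ 0 → ∀ u : (A)[X], Polynomial.mapRingHom (algebraMap k A) p * u ∈ I → u ∈ I := by
    intro p hp u hu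
    obtain ⟨s, b, hb, he⟩ := mem_fam.1 hu
    have h1 := congrArg (θ i) he
    rw [map_mul, θ_map, map_add, map_mul, map_mul, hθd, zero_mul, add_zero] at h1
    have h2 : θ i u %ₘ F = 0 := by
      have h3 : (p • θ i u) %ₘ F = 0 := by
        rw [Polynomial.smul_eq_C_mul, h1, Polynomial.modByMonic_eq_zero_iff_dvd hmon]
        exact dvd_mul_left _ _
      rw [Polynomial.smul_modByMonic] at h3
      exact (smul_eq_zero.1 h3).resolve_left hp
    obtain ⟨q, hq⟩ := (Polynomial.modByMonic_eq_zero_iff_dvd hmon).1 h2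
    obtain ⟨w, hw⟩ := dvd_sub_θ hij (u - C f * σ i q)
    have hz : θ i (u - C f * σ i q) = 0 := by
      rw [map_sub, map_mul, θ_σ, hq]
      exact sub_self _
    rw [hz, map_zero, sub_zero, ← hd] at hw
    set P := Polynomial.mapRingHom (algebraMap k A) p with hP
    have he2 : d * (P * w - b) = (s - P * σ i q) * C f := by linear_combination he - P * hw
    have hdd : d = -(X - C (MvPolynomial.X j)) := by rw [hd]; ring
    have hroot : (X - C (MvPolynomial.X j : A)) ∣ (s - P * σ i q) := by
      rw [Polynomial.dvd_iff_isRoot, Polynomial.IsRoot.def]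
      have h3 := congrArg (Polynomial.eval (MvPolynomial.X j : A)) he2
      rw [eval_mul, eval_mul, hdd, eval_neg, eval_sub, eval_X, eval_C, sub_self, neg_zero, zero_mul] at h3
      refine (mul_eq_zero.1 h3.symm).resolve_right ?_
      intro hf0
      rw [eval_C] at hf0
      exact hmon.ne_zero (by simp [F, hf0])
    obtain ⟨s', hs'⟩ := hroot
    have hd0 : d ≠ 0 := by rw [hdd]; exact neg_ne_zero.2 (X_sub_C_ne_zero _)
    have he3 : P * w - b = -(s' * C f) := by
      refine mul_left_cancel₀ hd0 ?_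
      rw [he2, hs', hdd]
      ring
    have hPw : P * w ∈ (colon j 𝔞).map C := by
      rw [sub_eq_iff_eq_add.1 he3]
      exact add_mem (neg_mem (Ideal.mul_mem_left _ _ (Ideal.mem_map_of_mem C hfcolon))) hb
    have hwmem : w ∈ (colon j 𝔞).map C := by
      rw [Ideal.mem_map_C_iff] at hPw ⊢
      set φ := Polynomial.mapRingHom (Ideal.Quotient.mk (colon j 𝔞))
      have h0 : φ P * φ w = 0 := by
        rw [← map_mul]
        ext n
        rw [Polynomial.coe_mapRingHom, Polynomial.coeff_map, Polynomial.coeff_zero]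
        exact Ideal.Quotient.eq_zero_iff_mem.2 (hPw n)
      have hlc : IsUnit (algebraMap k (A ⧸ colon j 𝔞) p.leadingCoeff) :=
        (isUnit_iff_ne_zero.2 (leadingCoeff_ne_zero.2 hp)).map _
      have hP' : φ P = C (algebraMap k (A ⧸ colon j 𝔞) p.leadingCoeff) *
          (p * C p.leadingCoeff⁻¹).map (algebraMap k (A ⧸ colon j 𝔞)) := by
        have hp' : p = C p.leadingCoeff * (p * C p.leadingCoeff⁻¹) := by
          rw [mul_left_comm, ← C_mul, mul_inv_cancel₀ (leadingCoeff_ne_zero.2 hp), C_1, mul_one]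
        simp only [φ, hP, Polynomial.coe_mapRingHom, Polynomial.map_map]
        refine ((congrArg (Polynomial.map (algebraMap k (A ⧸ colon j 𝔞))) hp').trans ?_)
        rw [Polynomial.map_mul, Polynomial.map_C]
      rw [hP', mul_assoc] at h0
      have h1 := ((hlc.map C).mul_right_eq_zero).1 h0
      have h2 := ((Polynomial.monic_mul_leadingCoeff_inv hp).map _).mul_right_eq_zero_iff.1 h1
      intro n
      have h3 := congrArg (fun q => Polynomial.coeff q n) h2
      simp only [φ, Polynomial.coe_mapRingHom, Polynomial.coeff_map, Polynomial.coeff_zero] at h3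
      exact Ideal.Quotient.eq_zero_iff_mem.1 h3
    rw [show u = C f * σ i q + d * w by linear_combination hw]
    exact add_mem (Ideal.mul_mem_right _ _ (Ideal.mem_sup_left (Ideal.mem_span_singleton_self _)))
      (Ideal.mem_sup_right (Ideal.mul_mem_mul (Ideal.mem_span_singleton_self d) hwmem))
  exact key gens hgfin hgens hreg

end Family

end Groth.L28.PullApart
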