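import Groth.Agent.L28.PullApart.Basic

/-!
Construction of the family pulling apart a punctual ideal.
-/

set_option autoImplicit false
set_option backward.isDefEq.respectTransparency.types false
set_option linter.style.haveILetI false
universe u

open Polynomial

namespace Groth.L28.PullApart

variable {k : Type u} [Field k]

local notation "A" => MvPolynomial (Fin 2) k

variable {i j : Fin 2}

lemma degree_C_mul_le_aux {R : Type*} [CommRing R] (a : R) (p : R[X]) : (C a * p).degree ≤ p.degree := by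
  rw [Polynomial.C_mul']
  exact degree_smul_le a p

lemma span_XY_eq : Ideal.span {MvPolynomial.X 0, MvPolynomial.X 1} =
    Ideal.span (Set.range fun l : Fin 2 => (MvPolynomial.X l : A) - MvPolynomial.C ((0 : Fin 2 → k) l)) := by
  congr 1
  ext x
  simp [Fin.exists_fin_two, eq_comm]

theorem exists_monic (hij : i ≠ j) (𝔞 : Ideal (MvPolynomial (Fin 2) k))
    (hsupp : 𝔞.radical = Ideal.span {MvPolynomial.X 0, MvPolynomial.X 1}) :
    ∃ f ∈ 𝔞, (θ i (C f)).Monic ∧ 0 < (θ i (C f)).natDegree ∧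
      ∀ h ∈ 𝔞, ∃ q : A, MvPolynomial.X j ∣ h - q * f := by
  have hX : ∀ l : Fin 2, ∃ N, (MvPolynomial.X l : A) ^ N ∈ 𝔞 := fun l => by
    have : (MvPolynomial.X l : A) ∈ 𝔞.radical := by
      rw [hsupp]
      refine Ideal.subset_span ?_
      fin_cases l <;> simp
    exact this
  obtain ⟨N, hN⟩ := hX i
  obtain ⟨M, hM⟩ := hX j
  have hsurj : Function.Surjective (θ₀ i : A →ₐ[k] k[X]) := fun p =>
    ⟨Polynomial.aeval (MvPolynomial.X i) p, by
      rw [← AlgHom.comp_apply]
      refine AlgHom.congr_fun (φ₂ := AlgHom.id k k[X]) (Polynomial.algHom_ext ?_) p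
      simp [θ₀]⟩
  set J := 𝔞.map (θ₀ i).toRingHom
  obtain ⟨g, hg'⟩ := (IsPrincipalIdealRing.principal J).principal
  have hg : J = Ideal.span {g} := hg'
  clear hg'
  have hgJ : g ∈ J := hg.ge (Ideal.mem_span_singleton_self g)
  have hgN : g ∣ (X : k[X]) ^ N := by
    rw [← Ideal.mem_span_singleton]
    have : θ₀ i (MvPolynomial.X i ^ N) ∈ J := Ideal.mem_map_of_mem (θ₀ i).toRingHom hN
    rw [map_pow] at this
    simp only [θ₀, MvPolynomial.aeval_X, if_true] at this
    rwa [hg] at this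
  obtain ⟨a, -, ha⟩ := (dvd_prime_pow Polynomial.prime_X N).1 hgN
  have haJ : (X : k[X]) ^ a ∈ J := by
    obtain ⟨u, hu⟩ := ha
    rw [← hu]; exact Ideal.mul_mem_right _ _ hgJ
  have hJdvd : ∀ h ∈ J, (X : k[X]) ^ a ∣ h := fun h hh =>
    ha.symm.dvd.trans (Ideal.mem_span_singleton.1 (hg.le hh))
  obtain ⟨f0, hf0, hf0a⟩ := (Ideal.mem_map_iff_of_surjective _ hsurj).1 haJ
  replace hf0a : θ₀ i f0 = X ^ a := hf0a
  have ha0 : 0 < a := Nat.pos_of_ne_zero fun h => by
    have hle : Ideal.span {MvPolynomial.X 0, MvPolynomial.X 1} ≤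
        RingHom.ker (MvPolynomial.eval (0 : Fin 2 → k)) := by
      rw [Ideal.span_le]
      rintro x (rfl | rfl) <;> simp
    have h1 : f0 ∈ RingHom.ker (MvPolynomial.eval (0 : Fin 2 → k)) := hle (hsupp.le (Ideal.le_radical hf0))
    have h2 : MvPolynomial.eval (0 : Fin 2 → k) f0 = Polynomial.eval 0 (θ₀ i f0) := by
      refine RingHom.congr_fun (g := (Polynomial.evalRingHom 0).comp (θ₀ i).toRingHom)
        (MvPolynomial.ringHom_ext (fun r => by simp [θ₀]) fun l => ?_) f0
      rcases cases_fin2 hij l with rfl | rfl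
      · simp [θ₀]
      · simp [θ₀, hij.symm]
    rw [RingHom.mem_ker.1 h1, hf0a, h, pow_zero, eval_one] at h2
    exact zero_ne_one h2
  obtain ⟨g0, hg0⟩ := dvd_sub_θ₀ hij f0
  rw [hf0a, map_pow, aeval_X] at hg0
  let Q : A → Prop := fun h => ∃ g : A, (θ i (C g)).degree < a ∧ h - g ∈ 𝔞
  have hQ : ∀ m h, ∃ g h' : A, (θ i (C g)).degree < a ∧ h - g - MvPolynomial.X j ^ m * h' ∈ 𝔞 := by
    intro m
    induction m with
    | zero => exact fun h => ⟨0, h, by simp, by simp⟩
    | succ m ih =>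
      intro h
      obtain ⟨g, h', hg', hmem⟩ := ih h
      obtain ⟨h'', hh''⟩ := dvd_sub_θ₀ hij h'
      have hmon : ((X : k[X]) ^ a).Monic := monic_X_pow a
      set r := θ₀ i h' %ₘ X ^ a with hr
      set q := θ₀ i h' /ₘ X ^ a with hq
      have e : Polynomial.aeval (MvPolynomial.X i : A) (θ₀ i h') =
          Polynomial.aeval (MvPolynomial.X i : A) r + MvPolynomial.X i ^ a * Polynomial.aeval (MvPolynomial.X i : A) q := by
        conv_lhs => rw [← Polynomial.modByMonic_add_div (θ₀ i h') (X ^ a), ← hr, ← hq]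
        simp
      refine ⟨g + MvPolynomial.X j ^ m * Polynomial.aeval (MvPolynomial.X i : A) r,
        h'' - g0 * Polynomial.aeval (MvPolynomial.X i : A) q, ?_, ?_⟩
      · rw [C_add, map_add, C_mul, map_mul, map_pow, map_pow, θ_C_X_ne hij, θ_C_aeval]
        refine (degree_add_le _ _).trans_lt (max_lt hg' ?_)
        rw [← C_pow]
        refine lt_of_le_of_lt (degree_C_mul_le_aux _ _) ?_
        refine (degree_map_le).trans_lt ?_
        have := degree_modByMonic_lt (θ₀ i h') hmon
        rwa [degree_X_pow] at this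
      · have : h - (g + MvPolynomial.X j ^ m * Polynomial.aeval (MvPolynomial.X i : A) r) -
            MvPolynomial.X j ^ (m + 1) * (h'' - g0 * Polynomial.aeval (MvPolynomial.X i : A) q) =
            (h - g - MvPolynomial.X j ^ m * h') +
              (MvPolynomial.X j ^ m * Polynomial.aeval (MvPolynomial.X i : A) q) * f0 := by
          linear_combination (MvPolynomial.X j ^ m) * hh'' + (MvPolynomial.X j ^ m) * e -
            (MvPolynomial.X j ^ m * Polynomial.aeval (MvPolynomial.X i : A) q) * hg0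
        rw [this]
        exact add_mem hmem (Ideal.mul_mem_left _ _ hf0)
  obtain ⟨g, h', hg', hmem⟩ := hQ M g0
  have hmem' : g0 - g ∈ 𝔞 := by
    simpa using add_mem hmem (Ideal.mul_mem_right h' 𝔞 hM)
  have hf : MvPolynomial.X i ^ a + MvPolynomial.X j * g ∈ 𝔞 := by
    have : MvPolynomial.X i ^ a + MvPolynomial.X j * g = f0 - MvPolynomial.X j * (g0 - g) := by
      linear_combination -hg0
    rw [this]
    exact sub_mem hf0 (Ideal.mul_mem_left _ _ hmem')
  have hθf : θ i (C (MvPolynomial.X i ^ a + MvPolynomial.X j * g)) = X ^ a + C X * θ i (C g) := by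
    rw [C_add, map_add, C_pow, map_pow, θ_C_X_self, C_mul, map_mul, θ_C_X_ne hij]
  have hdeg : (C (X : k[X]) * θ i (C g)).degree < a := (degree_C_mul_le_aux _ _).trans_lt hg'
  refine ⟨_, hf, ?_, ?_, fun h hh => ?_⟩
  · rw [hθf]
    exact monic_X_pow_add hdeg
  · rw [hθf, natDegree_eq_of_degree_eq_some (n := a)]
    · exact ha0
    · rw [degree_add_eq_left_of_degree_lt (by rwa [degree_X_pow]), degree_X_pow]
  · obtain ⟨q, hq⟩ := hJdvd _ (Ideal.mem_map_of_mem (θ₀ i).toRingHom hh)
    replace hq : θ₀ i h = X ^ a * q := hq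
    obtain ⟨e, he⟩ := dvd_sub_θ₀ hij h
    rw [hq, map_mul, map_pow, aeval_X] at he
    refine ⟨Polynomial.aeval (MvPolynomial.X i) q, e - Polynomial.aeval (MvPolynomial.X i) q * g, ?_⟩
    linear_combination he

variable [IsAlgClosed k]

theorem main (hij : i ≠ j) (𝔞 : Ideal (MvPolynomial (Fin 2) k))
    [Module.Finite k (MvPolynomial (Fin 2) k ⧸ 𝔞)]
    (hsupp : 𝔞.radical = Ideal.span {MvPolynomial.X 0, MvPolynomial.X 1})
    (hj : MvPolynomial.X j ∉ 𝔞) :
    ∃ 𝔞' : Ideal (A)[X],
      RingHom.Flat (R := k[X]) (S := (A)[X] ⧸ 𝔞')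
        ((Ideal.Quotient.mk 𝔞').comp (Polynomial.mapRingHom (algebraMap k A))) ∧
      @RingHom.Finite k[X] ((A)[X] ⧸ 𝔞') _ _
        ((Ideal.Quotient.mk 𝔞').comp (Polynomial.mapRingHom (algebraMap k (MvPolynomial (Fin 2) k)))) ∧
      Ideal.map (Polynomial.evalRingHom (0 : A)) 𝔞' = 𝔞 ∧
      ∀ c : k, c ≠ 0 →
        Ideal.map (Polynomial.evalRingHom (MvPolynomial.C c)) 𝔞' ≤ Ideal.span {MvPolynomial.X 0, MvPolynomial.X 1} ∧
        ∃ p : Fin 2 → k, p ≠ 0 ∧
          Ideal.map (Polynomial.evalRingHom (MvPolynomial.C c)) 𝔞' ≤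
            Ideal.span (Set.range (fun l : Fin 2 => MvPolynomial.X l - MvPolynomial.C (p l))) := by
  obtain ⟨f, hf, hmon, hdeg, hdiv⟩ := exists_monic hij 𝔞 hsupp
  have hmap : ∀ c : A, Ideal.map (Polynomial.evalRingHom c) (fam j 𝔞 f) =
      Ideal.span {f} ⊔ Ideal.span {MvPolynomial.X j - c} * colon j 𝔞 := fun c => by
    rw [fam, Ideal.map_sup, Ideal.map_mul, Ideal.map_span, Ideal.map_span, Ideal.map_map,
      Set.image_singleton, Set.image_singleton]
    congr 2
    · simp
    · simp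
    · rw [show (Polynomial.evalRingHom c).comp C = RingHom.id A from RingHom.ext fun x => by simp, Ideal.map_id]
  obtain ⟨hflat, hfin⟩ := flat_finite hij hmon hf
  refine ⟨fam j 𝔞 f, hflat, hfin, ?_, fun c hc => ?_⟩
  · rw [hmap, sub_zero]
    refine le_antisymm (sup_le (by rwa [Ideal.span_singleton_le_iff_mem]) ?_) fun h hh => ?_
    · rw [Ideal.mul_le]
      intro r hr s hs
      obtain ⟨t, rfl⟩ := Ideal.mem_span_singleton'.1 hr
      rw [mul_assoc]
      exact Ideal.mul_mem_left _ _ hs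
    · obtain ⟨q, e, he⟩ := hdiv h hh
      have hec : e ∈ colon j 𝔞 := mem_colon.2 (he ▸ sub_mem hh (Ideal.mul_mem_left _ _ hf))
      rw [show h = q * f + MvPolynomial.X j * e by linear_combination he]
      exact Submodule.add_mem_sup (Ideal.mul_mem_left _ _ (Ideal.mem_span_singleton_self f))
        (Ideal.mul_mem_mul (Ideal.mem_span_singleton_self _) hec)
  have hcolon : colon j 𝔞 ≤ Ideal.span {MvPolynomial.X 0, MvPolynomial.X 1} := by
    have hne : colon j 𝔞 ≠ ⊤ := fun h => hj (by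
      have := mem_colon.1 ((Ideal.eq_top_iff_one (colon j 𝔞)).1 h)
      rwa [mul_one] at this)
    obtain ⟨M, hM, hle⟩ := Ideal.exists_le_maximal _ hne
    haveI := hM.isPrime
    have hrad : Ideal.span {MvPolynomial.X 0, MvPolynomial.X 1} ≤ M := by
      rw [← hsupp]
      exact hM.isPrime.radical_le_iff.2 fun h hh => hle (mem_colon.2 (Ideal.mul_mem_left _ _ hh))
    refine hle.trans fun h hh => ?_
    have h0 : MvPolynomial.eval (0 : Fin 2 → k) h = 0 := by
      by_contra hne0
      refine hM.ne_top (Ideal.eq_top_of_isUnit_mem M ?_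
        ((isUnit_iff_ne_zero.2 hne0).map (MvPolynomial.C (σ := Fin 2))))
      have h1 : h - MvPolynomial.C (MvPolynomial.eval (0 : Fin 2 → k) h) ∈ M := hrad (span_XY_eq.ge
        (mem_pointIdeal 0 _ (by simp)))
      simpa using sub_mem hh h1
    exact span_XY_eq.ge (mem_pointIdeal 0 h h0)
  refine ⟨?_, ?_⟩
  · rw [hmap]
    exact sup_le ((Ideal.span_singleton_le_iff_mem _).2 (hsupp.le (Ideal.le_radical hf)))
      (Ideal.mul_le_right.trans hcolon)
  obtain ⟨ξ, hξ⟩ : ∃ ξ, ((θ i (C f)).map (Polynomial.evalRingHom c)).IsRoot ξ :=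
    IsAlgClosed.exists_root _ (by
      rw [hmon.degree_map, degree_eq_natDegree hmon.ne_zero]
      exact_mod_cast hdeg.ne')
  refine ⟨Function.update (fun _ => ξ) j c, fun h => hc (by simpa using congrFun h j), ?_⟩
  set p := Function.update (fun _ : Fin 2 => ξ) j c
  have hpf : MvPolynomial.eval p f = 0 := by
    rw [Polynomial.IsRoot.def] at hξ
    rw [← hξ]
    refine RingHom.congr_fun (g := (Polynomial.evalRingHom ξ).comp ((Polynomial.mapRingHom (Polynomial.evalRingHom c)).comp
      ((θ i).comp C))) (MvPolynomial.ringHom_ext (fun r => by simp [θ, p]) fun l => ?_) f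
    rcases cases_fin2 hij l with rfl | rfl
    · simp [θ, p, hij]
    · simp [θ, p, hij.symm]
  rw [hmap]
  refine sup_le ((Ideal.span_singleton_le_iff_mem _).2 (mem_pointIdeal p f hpf)) (Ideal.mul_le_left.trans ?_)
  rw [Ideal.span_singleton_le_iff_mem]
  exact mem_pointIdeal p _ (by simp [p])

end Groth.L28.PullApart
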